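import Cfsg.Agent.Lib.ClassMax.Fi23Local.Defs

set_option autoImplicit false
set_option maxRecDepth 100000
set_option Elab.async false

/-! Kernel check of the normalising element, plane by plane (owner: helper18). -/

namespace CfsgLib.ClassMax.F23L

open CfsgLib.ThreeTrans.CosetIndex (forallFrom)
open CfsgLib.Recog.BitPerm CfsgLib.Recog.FiThree CfsgLib.Recog.FiThreeNorm CfsgLib.LocalEvenB.F23C

theorem forallFrom_of_planes {f : ℕ → Bool} : ∀ n, (∀ r < n, f r = true) → forallFrom f 0 n = true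
  | 0, _ => rfl
  | n + 1, h => by
    show (f (0 + n) && forallFrom f 0 n) = true
    rw [Nat.zero_add, h n (Nat.lt_succ_self n), forallFrom_of_planes n fun r hr => h r (Nat.lt_succ_of_lt hr)]
    rfl

theorem g_conj_0 : Nat.beq (runWord net (gW ++ CfsgLib.LocalEvenB.F23C.zW ++ gW.reverse ++ CfsgLib.LocalEvenB.F23C.zW)
    (plane 0 15)) (plane 0 15) = true := by decide +kernel

theorem g_conj_1 : Nat.beq (runWord net (gW ++ CfsgLib.LocalEvenB.F23C.zW ++ gW.reverse ++ CfsgLib.LocalEvenB.F23C.zW)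
    (plane 1 15)) (plane 1 15) = true := by decide +kernel

theorem g_conj_2 : Nat.beq (runWord net (gW ++ CfsgLib.LocalEvenB.F23C.zW ++ gW.reverse ++ CfsgLib.LocalEvenB.F23C.zW)
    (plane 2 15)) (plane 2 15) = true := by decide +kernel

theorem g_conj_3 : Nat.beq (runWord net (gW ++ CfsgLib.LocalEvenB.F23C.zW ++ gW.reverse ++ CfsgLib.LocalEvenB.F23C.zW)
    (plane 3 15)) (plane 3 15) = true := by decide +kernel

theorem g_conj_4 : Nat.beq (runWord net (gW ++ CfsgLib.LocalEvenB.F23C.zW ++ gW.reverse ++ CfsgLib.LocalEvenB.F23C.zW)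
    (plane 4 15)) (plane 4 15) = true := by decide +kernel

theorem g_conj_5 : Nat.beq (runWord net (gW ++ CfsgLib.LocalEvenB.F23C.zW ++ gW.reverse ++ CfsgLib.LocalEvenB.F23C.zW)
    (plane 5 15)) (plane 5 15) = true := by decide +kernel

theorem g_conj_6 : Nat.beq (runWord net (gW ++ CfsgLib.LocalEvenB.F23C.zW ++ gW.reverse ++ CfsgLib.LocalEvenB.F23C.zW)
    (plane 6 15)) (plane 6 15) = true := by decide +kernel

theorem g_conj_7 : Nat.beq (runWord net (gW ++ CfsgLib.LocalEvenB.F23C.zW ++ gW.reverse ++ CfsgLib.LocalEvenB.F23C.zW)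
    (plane 7 15)) (plane 7 15) = true := by decide +kernel

theorem g_conj_8 : Nat.beq (runWord net (gW ++ CfsgLib.LocalEvenB.F23C.zW ++ gW.reverse ++ CfsgLib.LocalEvenB.F23C.zW)
    (plane 8 15)) (plane 8 15) = true := by decide +kernel

theorem g_conj_9 : Nat.beq (runWord net (gW ++ CfsgLib.LocalEvenB.F23C.zW ++ gW.reverse ++ CfsgLib.LocalEvenB.F23C.zW)
    (plane 9 15)) (plane 9 15) = true := by decide +kernel

theorem g_conj_10 : Nat.beq (runWord net (gW ++ CfsgLib.LocalEvenB.F23C.zW ++ gW.reverse ++ CfsgLib.LocalEvenB.F23C.zW)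
    (plane 10 15)) (plane 10 15) = true := by decide +kernel

theorem g_conj_11 : Nat.beq (runWord net (gW ++ CfsgLib.LocalEvenB.F23C.zW ++ gW.reverse ++ CfsgLib.LocalEvenB.F23C.zW)
    (plane 11 15)) (plane 11 15) = true := by decide +kernel

theorem g_conj_12 : Nat.beq (runWord net (gW ++ CfsgLib.LocalEvenB.F23C.zW ++ gW.reverse ++ CfsgLib.LocalEvenB.F23C.zW)
    (plane 12 15)) (plane 12 15) = true := by decide +kernel

theorem g_conj_13 : Nat.beq (runWord net (gW ++ CfsgLib.LocalEvenB.F23C.zW ++ gW.reverse ++ CfsgLib.LocalEvenB.F23C.zW)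
    (plane 13 15)) (plane 13 15) = true := by decide +kernel

theorem g_conj_14 : Nat.beq (runWord net (gW ++ CfsgLib.LocalEvenB.F23C.zW ++ gW.reverse ++ CfsgLib.LocalEvenB.F23C.zW)
    (plane 14 15)) (plane 14 15) = true := by decide +kernel

theorem g_conj : idOK 15 net (gW ++ CfsgLib.LocalEvenB.F23C.zW ++ gW.reverse ++ CfsgLib.LocalEvenB.F23C.zW) = true :=
  forallFrom_of_planes 15 fun r hr => by
    interval_cases r
    exacts [g_conj_0, g_conj_1, g_conj_2, g_conj_3, g_conj_4, g_conj_5, g_conj_6, g_conj_7, g_conj_8, g_conj_9, g_conj_10, g_conj_11, g_conj_12, g_conj_13, g_conj_14]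

end CfsgLib.ClassMax.F23L
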