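import Cfsg.Agent.Lib.ClassMax.Fi23Local.Defs

set_option autoImplicit false
set_option maxRecDepth 100000
set_option Elab.async false

/-! Kernel check of the table of the extra element, plane by plane (owner: helper18). -/

namespace CfsgLib.ClassMax.F23L

open CfsgLib.ThreeTrans.CosetIndex (forallFrom)
open CfsgLib.Recog.BitPerm CfsgLib.Recog.FiThree CfsgLib.Recog.FiThreeNorm CfsgLib.LocalEvenB.F23C

theorem g_table_0 : planeOK gW gPk 0 = true := by decide +kernel

theorem g_table_1 : planeOK gW gPk 1 = true := by decide +kernel

theorem g_table_2 : planeOK gW gPk 2 = true := by decide +kernel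

theorem g_table_3 : planeOK gW gPk 3 = true := by decide +kernel

theorem g_table_4 : planeOK gW gPk 4 = true := by decide +kernel

theorem g_table_5 : planeOK gW gPk 5 = true := by decide +kernel

theorem g_table_6 : planeOK gW gPk 6 = true := by decide +kernel

theorem g_table_7 : planeOK gW gPk 7 = true := by decide +kernel

theorem g_table_8 : planeOK gW gPk 8 = true := by decide +kernel

theorem g_table_9 : planeOK gW gPk 9 = true := by decide +kernel

theorem g_table_10 : planeOK gW gPk 10 = true := by decide +kernel

theorem g_table_11 : planeOK gW gPk 11 = true := by decide +kernel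

theorem g_table_12 : planeOK gW gPk 12 = true := by decide +kernel

theorem g_table_13 : planeOK gW gPk 13 = true := by decide +kernel

theorem g_table_14 : planeOK gW gPk 14 = true := by decide +kernel

theorem g_table : tableOK gW gPk = true :=
  List.all_eq_true.2 fun r hr => by
    rw [List.mem_range] at hr
    interval_cases r
    exacts [g_table_0, g_table_1, g_table_2, g_table_3, g_table_4, g_table_5, g_table_6, g_table_7, g_table_8, g_table_9, g_table_10, g_table_11, g_table_12, g_table_13, g_table_14]

theorem g_range : (List.range 324).all (fun i => Nat.blt (app9 gPk i) 324) = true := by decide +kernel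

end CfsgLib.ClassMax.F23L
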