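import Cfsg.Agent.Lib.ClassMax.Fi23Local.Defs

set_option autoImplicit false
set_option maxRecDepth 100000
set_option Elab.async false

/-! Kernel checks on the 324 positions (owner: helper18). -/

namespace CfsgLib.ClassMax.F23L

theorem quads_ok : quadsOK = true := by decide +kernel

theorem qbase_ok : qbaseOK = true := by decide +kernel

theorem aff_ok : affOK = true := by decide +kernel

theorem frame_ok : frameOK = true := by decide +kernel

theorem prod_ok_zero : prodOK pX0 0 = true := by decide +kernel

theorem prod_ok_one : prodOK pX1 1 = true := by decide +kernel

theorem qgen_ok_0 : qgenOK 0 = true := by decide +kernel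

theorem qgen_ok_1 : qgenOK 1 = true := by decide +kernel

theorem qgen_ok_2 : qgenOK 2 = true := by decide +kernel

theorem qgen_ok_3 : qgenOK 3 = true := by decide +kernel

theorem qgen_ok_4 : qgenOK 4 = true := by decide +kernel

theorem qgen_ok_5 : qgenOK 5 = true := by decide +kernel

theorem qgen_ok_6 : qgenOK 6 = true := by decide +kernel

theorem qgen_ok_7 : qgenOK 7 = true := by decide +kernel

theorem qgen_ok_8 : qgenOK 8 = true := by decide +kernel

theorem qgen_ok_9 : qgenOK 9 = true := by decide +kernel

theorem qgen_ok_10 : qgenOK 10 = true := by decide +kernel

theorem qgen_ok_11 : qgenOK 11 = true := by decide +kernel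

theorem level_ok_0 : levelOK 0 = true := by decide +kernel

theorem level_ok_1 : levelOK 1 = true := by decide +kernel

theorem level_ok_2 : levelOK 2 = true := by decide +kernel

theorem level_ok_3 : levelOK 3 = true := by decide +kernel

theorem level_ok_4 : levelOK 4 = true := by decide +kernel

theorem level_ok_5 : levelOK 5 = true := by decide +kernel

theorem level_ok_6 : levelOK 6 = true := by decide +kernel

theorem level_ok_7 : levelOK 7 = true := by decide +kernel

theorem base0_ok : base0.all (fun k => Nat.blt k 16) = true := by decide +kernel

end CfsgLib.ClassMax.F23L
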