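import Cfsg.Agent.Lib.ClassMax.Fi23Local.Defs

set_option autoImplicit false
set_option maxRecDepth 100000
set_option Elab.async false

/-! Kernel checks on the 31671 points (owner: helper18). -/

namespace CfsgLib.ClassMax.F23L

open CfsgLib.Recog.BitPerm CfsgLib.Recog.FiThree CfsgLib.Recog.FiThreeNorm CfsgLib.LocalEvenB.F23C

theorem cover_ok : coverOK = true := by decide +kernel

theorem rep_ok_zero : repOK 0 = true := by decide +kernel

theorem rep_ok_one : repOK 1 = true := by decide +kernel

end CfsgLib.ClassMax.F23L
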