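import Cfsg.Agent.Lib.LocalEvenB.Fi23Central.Defs
import Cfsg.Agent.Lib.ClassMax.Fi23Local.Data

set_option autoImplicit false
set_option maxRecDepth 20000

/-! The conditions checked on the data (owner: helper18). -/

namespace CfsgLib.ClassMax.F23L

open CfsgLib.Recog.BitPerm CfsgLib.Recog.FiThree CfsgLib.Recog.FiThreeNorm CfsgLib.LocalEvenB.F23C

/-- The quad of a block. -/
noncomputable def qb (b : ℕ) : ℕ := look 4 qPk b

/-- The quad of a position. -/
noncomputable def qP (i : ℕ) : ℕ := qb (blk i)

/-- The operation on quads. -/
noncomputable def qop (a b : ℕ) : ℕ := look 4 qopPk (9 * a + b)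

/-- A generator on quads. -/
noncomputable def qgen (g a : ℕ) : ℕ := look 4 (qgenPk.getD g 0) a

/-- The quads are the classes of equal or adjacent blocks. -/
noncomputable def quadsOK : Bool :=
  ((List.range 36).all fun b => Nat.blt (qb b) 9) && (((List.range 81).all fun a => Nat.blt (look 4 qopPk a) 9) &&
  (List.range 324).all fun i => (List.range 36).all fun b =>
    Nat.beq (qb b) (qP i) == (Nat.beq b (blk i) || (adjL.getD b 0).testBit i))

/-- The root transposition acts by the operation. -/
noncomputable def qbaseOK : Bool :=
  (List.range 324).all fun j => Nat.beq (qop (qP base) (qP j)) (qP (app9 (tauTab.getD (dIdx.getD 0 0) 0) j))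

/-- A generator respects quads and the operation. -/
noncomputable def qgenOK (g : ℕ) : Bool :=
  ((List.range 324).all fun i => Nat.beq (qP (app9 (gTab.getD g 0) i)) (qgen g (qP i))) &&
  (List.range 9).all fun a => (List.range 9).all fun b => Nat.beq (qgen g (qop a b)) (qop (qgen g a) (qgen g b))

/-- All nine values from the values on the frame. -/
noncomputable def extend (t : List ℕ) : List ℕ :=
  steps.foldl (fun v e => v ++ [qop (v.getD e.1 0) (v.getD e.2 0)]) t

/-- The map determined by the values on the frame. -/
noncomputable def affMap (a b c : ℕ) : List ℕ :=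
  (List.range 9).map fun q => (extend [a, b, c]).getD (look 4 posPk q) 0

/-- Iteration of a map given by a list. -/
noncomputable def iterL (L : List ℕ) : ℕ → ℕ → ℕ
  | 0, q => q
  | n + 1, q => L.getD (iterL L n q) 0

/-- A bijective map determined on the frame has order dividing 24. -/
noncomputable def affOK : Bool :=
  (List.range 9).all fun a => (List.range 9).all fun b => (List.range 9).all fun c =>
    !decide (affMap a b c).Nodup || (List.range 9).all fun q => Nat.beq (iterL (affMap a b c) 24 q) q

/-- The frame gives the identity. -/
noncomputable def frameOK : Bool :=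
  (List.range 9).all fun q => Nat.beq ((extend frame).getD (look 4 posPk q) 0) q &&
    Nat.blt (look 4 posPk q) (extend frame).length

/-- The table of a tabulated generator. -/
noncomputable def tab0 (k : ℕ) : ℕ := if k < 14 then tauTab.getD k 0 else if k = 14 then wTab else gPk

/-- The tables of a level. -/
noncomputable def tabsAt (k : ℕ) : List ℕ := if k = 0 then base0.map tab0 else lvT.getD (k - 1) []

/-- One recipe. -/
noncomputable def recOK (k m : ℕ) : Bool :=
  let r := (lvR.getD k []).getD m (0, 0, 0)
  let t := (tabsAt (k + 1)).getD m 0
  let a := (tabsAt k).getD r.2.1 0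
  ((List.range 324).all fun p => Nat.blt (app9 t p) 324) && (Nat.blt r.2.1 (tabsAt k).length &&
  cond (Nat.beq r.1 0)
    (Nat.blt r.2.2 (tabsAt k).length && (List.range 324).all fun p =>
      Nat.beq (app9 t (app9 ((tabsAt k).getD r.2.2 0) (app9 a p))) (app9 a (app9 ((tabsAt k).getD r.2.2 0) p)))
    (Nat.blt r.2.2 m && (List.range 324).all fun p =>
      Nat.beq (app9 t (app9 a p)) (app9 a (app9 ((tabsAt (k + 1)).getD r.2.2 0) p))))

/-- All recipes of a level. -/
noncomputable def levelOK (k : ℕ) : Bool := (List.range (tabsAt (k + 1)).length).all fun m => recOK k m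

/-- A product of elements of the eighth level. -/
noncomputable def app8 (l : List ℕ) (i : ℕ) : ℕ := l.foldr (fun m a => app9 ((tabsAt 8).getD m 0) a) i

/-- A translation is such a product. -/
noncomputable def prodOK (l : List ℕ) (j : ℕ) : Bool :=
  (l.all fun m => Nat.blt m (tabsAt 8).length) &&
    (List.range 324).all fun p => Nat.beq (app8 l p) (app9 (xTab.getD j 0) p)

/-- The generators of the normaliser as words. -/
noncomputable def genWords : List (List ℕ) := (List.range 14).map tauW ++ [wW, gW]

/-- All points. -/
noncomputable def fullMask : ℕ := 2 ^ 31671 - 1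

/-- The word of the transposition of a representative. -/
noncomputable def repW (k : ℕ) : List ℕ := (orbReps.getD k (0, [])).2 ++ 0 :: (orbReps.getD k (0, [])).2.reverse

/-- The point of a representative. -/
noncomputable def repPt (k : ℕ) : ℕ := (orbReps.getD k (0, [])).1

/-- The normaliser has three orbits. -/
noncomputable def coverOK : Bool :=
  Nat.beq (Nat.lor maskF (Nat.lor (orbitSet net genWords (repPt 0) 2) (orbitSet net genWords (repPt 1) 2))) fullMask

/-- A further transposition gives a transitive group. -/
noncomputable def repOK (k : ℕ) : Bool :=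
  Nat.blt (repPt k) 31671 && (mapsOK net (orbReps.getD k (0, [])).2 pA (repPt k) &&
    Nat.beq (orbitSet net (genWords ++ [repW k]) (repPt k) 2) fullMask)

end CfsgLib.ClassMax.F23L
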