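import Cfsg.Agent.Lib.LocalEvenB.Fi23Central.Main
import Cfsg.Agent.Lib.ClassMax.Fi23Local.ChecksWords
import Cfsg.Agent.Lib.ClassMax.Fi23Local.ChecksConj
import Cfsg.Agent.Lib.ClassMax.Fi23Local.ChecksTable

set_option autoImplicit false
set_option maxRecDepth 20000
set_option linter.style.haveILetI false

/-! The generators of the normaliser of a 3-central subgroup of Fi23 (owner: helper18). -/

namespace CfsgLib.ClassMax.F23L

open Cfsg CfsgLib.Recog.BitPerm CfsgLib.Recog.FiThree CfsgLib.Recog.FiThreeNorm CfsgLib.LocalEvenB.F23C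

attribute [local instance] finite_fi23'

local notation "G23" => Cfsg.Spor.Fi23

theorem g_mem : word gW ∈ NZ := by
  refine mem_NZ_of_conj ?_
  have h := word_eq_one g_conj
  rw [word_append, word_append, word_append, word_reverse] at h
  rw [eq_inv_of_mul_eq_one_left h]
  exact inv_mem (Subgroup.mem_zpowers _)

theorem g_act {i : ℕ} (hi : i < 324) : act (word gW) (ptF i) = ptF (app9 gPk i) := by
  refine table_spec g_table (fun j hj => ?_) hi
  have h := g_range
  rw [List.all_eq_true] at h
  simpa [Nat.blt_eq] using h j (List.mem_range.2 hj)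

/-- A tabulated element of the normaliser. -/
def HasTab (u : NZ) (t : ℕ) : Prop := ∀ i : Fin 324, (pi u i : ℕ) = app9 t i

theorem hasTab_of_act {g : G23} (hg : g ∈ NZ) {t : ℕ} (ht : ∀ i < 324, app9 t i < 324)
    (h : ∀ i < 324, act g (ptF i) = ptF (app9 t i)) : HasTab ⟨g, hg⟩ t :=
  fun i => pi_eq (ht i i.2) (h i i.2)

theorem tab_zero {k : ℕ} (hk : k < 16) : ∃ u : NZ, HasTab u (tab0 k) := by
  rw [tab0]
  split_ifs with h1 h2
  · exact ⟨_, hasTab_of_act (tauE_mem h1) (fun i hi => (range_spec hi).2.2.1 _ (tauTab_mem h1))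
      fun i hi => tauE_act h1 hi⟩
  · exact ⟨_, hasTab_of_act w_mem (fun i hi => (range_spec hi).2.2.2.2) fun i hi => w_act hi⟩
  · refine ⟨_, hasTab_of_act g_mem (fun i hi => ?_) fun i hi => g_act hi⟩
    have h := g_range
    rw [List.all_eq_true] at h
    simpa [Nat.blt_eq] using h i (List.mem_range.2 hi)

theorem genWords_mem {w : List ℕ} (hw : w ∈ genWords) : word w ∈ NZ := by
  simp only [genWords, List.mem_append, List.mem_map, List.mem_range, List.mem_cons, List.not_mem_nil, or_false] at hw
  rcases hw with ⟨k, hk, rfl⟩ | rfl | rfl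
  · rw [← tauE_word hk]; exact tauE_mem hk
  · exact w_mem
  · exact g_mem

end CfsgLib.ClassMax.F23L
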