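import Cfsg.Agent.Lib.LocalEvenB.Fi23Central.Main
import Cfsg.Agent.Lib.ClassMax.Fi23Local.ChecksTables
import Cfsg.Agent.S0144

set_option autoImplicit false
set_option maxRecDepth 20000
set_option linter.style.haveILetI false

/-!
The normaliser is a solvable {2,3}-group: its action on the nine quads preserves an affine plane
(owner: helper18).
-/

namespace CfsgLib.ClassMax.F23L

open Cfsg CfsgLib.Recog.BitPerm CfsgLib.Recog.FiThree CfsgLib.Recog.FiThreeNorm CfsgLib.LocalEvenB.F23C

attribute [local instance] finite_fi23'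

local notation "G23" => Cfsg.Spor.Fi23

theorem qb_lt {b : ℕ} (hb : b < 36) : qb b < 9 := by
  have h := quads_ok
  simp only [quadsOK, Bool.and_eq_true, List.all_eq_true, List.mem_range, Nat.blt_eq] at h
  exact h.1 b hb

theorem qop_lt {a b : ℕ} (ha : a < 9) (hb : b < 9) : qop a b < 9 := by
  have h := quads_ok
  simp only [quadsOK, Bool.and_eq_true, List.all_eq_true, List.mem_range, Nat.blt_eq] at h
  exact h.2.1 (9 * a + b) (by omega)

theorem quad_iff {i b : ℕ} (hi : i < 324) (hb : b < 36) :
    qb b = qP i ↔ b = blk i ∨ (adjL.getD b 0).testBit i = true := by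
  have h := quads_ok
  simp only [quadsOK, Bool.and_eq_true, List.all_eq_true, List.mem_range, beq_iff_eq] at h
  have h' := h.2.2 i hi b hb
  rw [Bool.eq_iff_iff, Nat.beq_eq, Bool.or_eq_true, Nat.beq_eq] at h'
  exact h'

theorem qP_eq_iff {i j : Fin 324} : qP i = qP j ↔ blk i = blk j ∨ rel i j = true := by
  rw [show qP (i : ℕ) = qb (blk i) from rfl, quad_iff j.2 (blk_lt i.2), rel, Bool.or_eq_true, Nat.beq_eq]
  constructor
  · rintro (h | h)
    · exact Or.inl h
    · exact Or.inr (Or.inr h)
  · rintro (h | h | h)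
    · exact Or.inl h
    · exact Or.inl (by rw [h])
    · exact Or.inr h

theorem qP_pi (g : NZ) {i j : Fin 324} (h : qP i = qP j) : qP (pi g i) = qP (pi g j) := by
  rw [qP_eq_iff] at h ⊢
  rcases h with h | h
  · exact Or.inl (congrArg Fin.val (pi_blk g (i := i) (i' := j) (Fin.ext h)))
  · exact Or.inr (by rw [rel_pi]; exact h)

/-- The operation is the action of the transpositions on quads. -/
def OpAt (i : Fin 324) : Prop := ∀ j : Fin 324, qP (pi (TN i) j) = qop (qP i) (qP j)

theorem opAt_base : OpAt baseF := by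
  intro j
  have hk : dIdx.getD 0 0 < 14 := by decide +kernel
  have hb := base_ok
  simp only [baseOK, Bool.and_eq_true, Nat.beq_eq] at hb
  have hT : T base = tauE (dIdx.getD 0 0) := by rw [tauE, hb.1]
  have e : (pi (TN baseF) j : ℕ) = app9 (tauTab.getD (dIdx.getD 0 0) 0) j := by
    refine pi_eq ((range_spec j.2).2.2.1 _ (tauTab_mem hk)) ?_
    show act (T base) (ptF j) = _
    rw [hT, tauE_act hk j.2]
  have h := qbase_ok
  simp only [qbaseOK, List.all_eq_true, List.mem_range, Nat.beq_eq] at h
  rw [e]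
  exact (h j j.2).symm

theorem qgen_all {g : ℕ} (hg : g < 12) : qgenOK g = true := by
  interval_cases g
  exacts [qgen_ok_0, qgen_ok_1, qgen_ok_2, qgen_ok_3, qgen_ok_4, qgen_ok_5, qgen_ok_6, qgen_ok_7, qgen_ok_8,
    qgen_ok_9, qgen_ok_10, qgen_ok_11]

theorem opAt_step {g : ℕ} (hg : g < 12) {i : Fin 324} (h : OpAt i) : OpAt (pi (gN g) i) := by
  intro j
  have hq := qgen_all hg
  simp only [qgenOK, Bool.and_eq_true, List.all_eq_true, List.mem_range, Nat.beq_eq] at hq
  have hgi : ∀ p : Fin 324, qP (pi (gN g) p) = qgen g (qP p) := fun p => by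
    have e := pi_gN_prod [g] (by simpa using hg) p
    simp only [List.map_cons, List.map_nil, List.prod_cons, List.prod_nil, mul_one, appG, List.foldr] at e
    rw [e]
    exact hq.1 p p.2
  obtain ⟨p, rfl⟩ := (pi (gN g)).surjective j
  rw [← TN_conj, map_mul, map_mul, map_inv, Equiv.Perm.mul_apply, Equiv.Perm.mul_apply, Equiv.Perm.inv_def,
    Equiv.symm_apply_apply, hgi, hgi, hgi, h p]
  exact hq.2 _ (qb_lt (blk_lt i.2)) _ (qb_lt (blk_lt p.2))

theorem opAt_order : ∀ k, ∀ hk : k < 324, ∀ hl : look 9 ordPk k < 324, OpAt ⟨look 9 ordPk k, hl⟩ := by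
  intro k
  induction k using Nat.strong_induction_on with
  | _ k ih =>
    intro hk hl
    obtain ⟨h0, -, -, hcase⟩ := trans_spec hk
    rcases hcase with rfl | ⟨hp, hg, e⟩
    · have : (⟨look 9 ordPk 0, hl⟩ : Fin 324) = baseF := by
        apply Fin.ext
        simp only [baseF]
        exact h0
      rw [this]
      exact opAt_base
    · have hlt := (from_base (look 9 parPk k) (by omega)).1
      have hstep := opAt_step hg (ih _ hp (by omega) hlt)
      have e' : (⟨look 9 ordPk k, hl⟩ : Fin 324) = pi (gN (look 4 genPk k)) ⟨_, hlt⟩ := by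
        refine Fin.ext ?_
        have e2 := pi_gN_prod [look 4 genPk k] (by simpa using hg) ⟨_, hlt⟩
        simp only [List.map_cons, List.map_nil, List.prod_cons, List.prod_nil, mul_one, appG, List.foldr] at e2
        rw [e2]
        exact e
      rw [e']
      exact hstep

theorem opAt_all (i : Fin 324) : OpAt i := by
  obtain ⟨-, h2, h3, -⟩ := trans_spec i.2
  have h := opAt_order _ h3 (by rw [h2]; exact i.2)
  have e : (⟨look 9 ordPk (look 9 opPk i), by rw [h2]; exact i.2⟩ : Fin 324) = i := Fin.ext h2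
  rwa [e] at h

theorem exists_qP {a : ℕ} (ha : a < 9) : ∃ i : Fin 324, qP i = a := by
  have h : (List.range 9).all (fun a => (List.range 324).any fun i => Nat.beq (qP i) a) = true := by decide +kernel
  simp only [List.all_eq_true, List.any_eq_true, List.mem_range, Nat.beq_eq] at h
  obtain ⟨i, hi, e⟩ := h a ha
  exact ⟨⟨i, hi⟩, e⟩

/-- The quad of a position, bounded. -/
noncomputable def qF (i : Fin 324) : Fin 9 := ⟨qP i, qb_lt (blk_lt i.2)⟩

/-- A position in a quad. -/
noncomputable def qrep (a : Fin 9) : Fin 324 := (exists_qP a.2).choose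

theorem qF_qrep (a : Fin 9) : qF (qrep a) = a := Fin.ext (exists_qP a.2).choose_spec

theorem qF_pi (g : NZ) {i j : Fin 324} (h : qF i = qF j) : qF (pi g i) = qF (pi g j) :=
  Fin.ext (qP_pi g (congrArg Fin.val h))

/-- The action on quads. -/
noncomputable def gam : NZ →* Equiv.Perm (Fin 9) where
  toFun g := ⟨fun a => qF (pi g (qrep a)), fun a => qF (pi g⁻¹ (qrep a)),
    fun a => by
      dsimp only
      rw [qF_pi g⁻¹ (qF_qrep (qF (pi g (qrep a)))), map_inv, Equiv.Perm.inv_def, Equiv.symm_apply_apply, qF_qrep],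
    fun a => by
      dsimp only
      rw [qF_pi g (qF_qrep (qF (pi g⁻¹ (qrep a)))), map_inv, Equiv.Perm.inv_def, Equiv.apply_symm_apply, qF_qrep]⟩
  map_one' := Equiv.ext fun a => by
    show qF (pi 1 (qrep a)) = a
    rw [map_one, Equiv.Perm.one_apply, qF_qrep]
  map_mul' g h := Equiv.ext fun a => by
    show qF (pi (g * h) (qrep a)) = qF (pi g (qrep (qF (pi h (qrep a)))))
    rw [map_mul, Equiv.Perm.mul_apply]
    exact qF_pi g (qF_qrep _).symm

theorem gam_qF (g : NZ) (i : Fin 324) : gam g (qF i) = qF (pi g i) := qF_pi g (qF_qrep (qF i))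

/-- A value of the action on quads as a number map. -/
noncomputable def gamN (g : NZ) (a : ℕ) : ℕ := if h : a < 9 then (gam g ⟨a, h⟩ : ℕ) else 0

theorem gamN_lt (g : NZ) (a : ℕ) : gamN g a < 9 := by
  rw [gamN]; split_ifs
  · exact Fin.is_lt _
  · norm_num

theorem qP_lt (i : Fin 324) : qP i < 9 := qb_lt (blk_lt i.2)

theorem gamN_qP (g : NZ) (i : Fin 324) : gamN g (qP i) = qP (pi g i) := by
  rw [gamN, dif_pos (qP_lt i)]
  exact congrArg Fin.val (gam_qF g i)

theorem gamN_op (g : NZ) {a b : ℕ} (ha : a < 9) (hb : b < 9) : gamN g (qop a b) = qop (gamN g a) (gamN g b) := by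
  obtain ⟨i, rfl⟩ := exists_qP ha
  obtain ⟨j, rfl⟩ := exists_qP hb
  rw [← opAt_all i j, gamN_qP, gamN_qP, gamN_qP, ← opAt_all (pi g i) (pi g j), ← TN_conj, map_mul, map_mul, map_inv,
    Equiv.Perm.mul_apply, Equiv.Perm.mul_apply, Equiv.Perm.inv_def, Equiv.symm_apply_apply]

theorem extend_map (g : NZ) {t : List ℕ} (ht : ∀ x ∈ t, x < 9) :
    extend (t.map (gamN g)) = (extend t).map (gamN g) ∨ ∃ e ∈ steps, ¬ (e.1 < 9 ∧ e.2 < 9) ∨ t.length ≠ 3 := by
  by_cases h3 : t.length = 3
  swap
  · exact Or.inr ⟨(steps.getD 0 (0, 0)), by decide +kernel, Or.inr h3⟩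
  left
  have key : ∀ (L : List (ℕ × ℕ)) (v : List ℕ), (∀ x ∈ v, x < 9) →
      (∀ m (hm : m < L.length), (L[m]).1 < v.length + m ∧ (L[m]).2 < v.length + m) →
      L.foldl (fun v e => v ++ [qop (v.getD e.1 0) (v.getD e.2 0)]) (v.map (gamN g)) =
        (L.foldl (fun v e => v ++ [qop (v.getD e.1 0) (v.getD e.2 0)]) v).map (gamN g) := by
    intro L
    induction L with
    | nil => intro v _ _; rfl
    | cons e L ih =>
      intro v hv hL
      obtain ⟨h1, h2⟩ := hL 0 (by simp)
      simp only [List.getElem_cons_zero, Nat.add_zero] at h1 h2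
      have hx : ∀ m < v.length, v.getD m 0 < 9 := fun m hm => by
        rw [List.getD_eq_getElem _ _ hm]; exact hv _ (List.getElem_mem hm)
      have he : ∀ m < v.length, (v.map (gamN g)).getD m 0 = gamN g (v.getD m 0) := fun m hm => by
        rw [List.getD_eq_getElem _ _ (by simpa using hm), List.getD_eq_getElem _ _ hm, List.getElem_map]
      rw [List.foldl_cons, List.foldl_cons, he _ h1, he _ h2, ← gamN_op g (hx _ h1) (hx _ h2)]
      rw [show v.map (gamN g) ++ [gamN g (qop (v.getD e.1 0) (v.getD e.2 0))] =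
        (v ++ [qop (v.getD e.1 0) (v.getD e.2 0)]).map (gamN g) by rw [List.map_append]; rfl]
      refine ih _ ?_ ?_
      · intro x hx'
        rcases List.mem_append.1 hx' with hx' | hx'
        · exact hv x hx'
        · rw [List.mem_singleton.1 hx']; exact qop_lt (hx _ h1) (hx _ h2)
      · intro m hm
        have := hL (m + 1) (by simpa using hm)
        simp only [List.getElem_cons_succ] at this
        rw [List.length_append, List.length_singleton]
        omega
  refine key steps t ht ?_
  have hs : (List.range steps.length).all (fun m => Nat.blt (steps.getD m (0, 0)).1 (3 + m) &&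
      Nat.blt (steps.getD m (0, 0)).2 (3 + m)) = true := by decide +kernel
  simp only [List.all_eq_true, List.mem_range, Bool.and_eq_true, Nat.blt_eq] at hs
  intro m hm
  have := hs m hm
  rw [List.getD_eq_getElem _ _ hm] at this
  rwa [h3]

theorem gamN_aff (g : NZ) {q : ℕ} (hq : q < 9) :
    (affMap (gamN g (frame.getD 0 0)) (gamN g (frame.getD 1 0)) (gamN g (frame.getD 2 0))).getD q 0 = gamN g q := by
  have hf : frame = [frame.getD 0 0, frame.getD 1 0, frame.getD 2 0] := by decide +kernel
  have hflt : ∀ x ∈ frame, x < 9 := by decide +kernel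
  have hsteps : ∀ e ∈ steps, e.1 < 9 ∧ e.2 < 9 := by decide +kernel
  have he : extend (frame.map (gamN g)) = (extend frame).map (gamN g) := by
    rcases extend_map g hflt with h | ⟨e, he, h⟩
    · exact h
    · rcases h with h | h
      · exact absurd (hsteps e he) h
      · exact absurd (by decide +kernel : frame.length = 3) h
  have h := frame_ok
  simp only [frameOK, List.all_eq_true, List.mem_range, Bool.and_eq_true, Nat.beq_eq, Nat.blt_eq] at h
  obtain ⟨h1, h2⟩ := h q hq
  rw [affMap, List.getD_eq_getElem _ _ (by simpa using hq), List.getElem_map, List.getElem_range,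
    show [gamN g (frame.getD 0 0), gamN g (frame.getD 1 0), gamN g (frame.getD 2 0)] = frame.map (gamN g) by
      conv_rhs => rw [hf]; simp only [List.map_cons, List.map_nil],
    he, List.getD_eq_getElem _ _ (by simpa using h2), List.getElem_map, ← List.getD_eq_getElem _ 0 h2, h1]

theorem gam_pow (g : NZ) : gam g ^ 24 = 1 := by
  set L := affMap (gamN g (frame.getD 0 0)) (gamN g (frame.getD 1 0)) (gamN g (frame.getD 2 0)) with hL
  have hval : ∀ a : Fin 9, L.getD a 0 = (gam g a : ℕ) := fun a => by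
    rw [hL, gamN_aff g a.2, gamN, dif_pos a.2]
  have hnd : L.Nodup := by
    have e : L = List.ofFn fun a : Fin 9 => (gam g a : ℕ) := by
      refine List.ext_getElem (by simp [hL, affMap]) fun q h1 h2 => ?_
      rw [List.getElem_ofFn, ← List.getD_eq_getElem _ 0 h1]
      exact hval ⟨q, by simpa using h2⟩
    rw [e, List.nodup_ofFn]
    exact Fin.val_injective.comp (gam g).injective
  have h := aff_ok
  simp only [affOK, List.all_eq_true, List.mem_range, Bool.or_eq_true, Bool.not_eq_true', decide_eq_false_iff_not,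
    Nat.beq_eq] at h
  rcases h _ (gamN_lt g _) _ (gamN_lt g _) _ (gamN_lt g _) with h' | h'
  · exact absurd hnd h'
  refine Equiv.ext fun a => Fin.ext ?_
  have key : ∀ n, ((gam g ^ n) a : ℕ) = iterL L n a := by
    intro n
    induction n with
    | zero => rw [pow_zero, Equiv.Perm.one_apply]; rfl
    | succ n ih => rw [pow_succ', Equiv.Perm.mul_apply, iterL, ← ih, hval]
  rw [key, h' a a.2, Equiv.Perm.one_apply]

theorem beta_pow {g : NZ} (h : gam g = 1) : beta g ^ 12 = 1 := by
  refine Equiv.ext fun b => ?_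
  classical
  let S : Finset (Fin 36) := Finset.univ.filter fun c => qb c = qb b
  have hS : S.card ≤ 4 := by
    have hk : ∀ b : Fin 36, (Finset.univ.filter fun c : Fin 36 => qb c = qb b).card ≤ 4 := by decide +kernel
    exact hk b
  have hstep : ∀ c : Fin 36, qb (beta g c) = qb c := by
    intro c
    have e := gamN_qP g (repF c)
    rw [gamN, dif_pos (qP_lt (repF c)), h, Equiv.Perm.one_apply] at e
    have e2 : beta g (blkF (repF c)) = blkF (pi g (repF c)) := beta_blk g (repF c)
    rw [blk_repF] at e2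
    have e3 : qb (blk (repF c)) = qb c := congrArg (fun x : Fin 36 => qb x) (blk_repF c)
    rw [e2]
    exact e.symm.trans e3
  have hmem : ∀ n, (beta g ^ n) b ∈ S := by
    intro n
    induction n with
    | zero => simp [S]
    | succ n ih =>
      simp only [S, Finset.mem_filter, Finset.mem_univ, true_and] at ih ⊢
      rw [pow_succ', Equiv.Perm.mul_apply, hstep, ih]
  obtain ⟨m, hm, n, hn, hne, e⟩ := Finset.exists_ne_map_eq_of_card_lt_of_maps_to (s := Finset.range 5) (t := S)
    (by rw [Finset.card_range]; omega) (f := fun n => (beta g ^ n) b) (fun n _ => hmem n)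
  rw [Finset.mem_range] at hm hn
  have key : ∀ i j, i < j → j < 5 → (beta g ^ i) b = (beta g ^ j) b → (beta g ^ 12) b = b := by
    intro i j hij hj e
    obtain ⟨d, rfl⟩ : ∃ d, j = i + d := ⟨j - i, by omega⟩
    rw [pow_add, Equiv.Perm.mul_apply] at e
    have hd : (beta g ^ d) b = b := ((beta g ^ i).injective e).symm
    have hdiv : d ∣ 12 := by
      have : d = 1 ∨ d = 2 ∨ d = 3 ∨ d = 4 := by omega
      rcases this with rfl | rfl | rfl | rfl <;> norm_num
    obtain ⟨c, hc⟩ := hdiv
    rw [hc, pow_mul]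
    exact Equiv.Perm.pow_apply_eq_self_of_apply_eq_self hd c
  rcases Nat.lt_or_gt_of_ne hne with hl | hl
  · exact key m n hl hn e
  · exact key n m hl hm e.symm

theorem NZ_pow (g : NZ) : g ^ (24 * 12 * 2 * 9) = 1 := by
  rw [pow_mul, pow_mul, pow_mul]
  have h1 : (g ^ 24) ^ 12 ∈ KB := by
    rw [KB, MonoidHom.mem_ker, map_pow]
    exact beta_pow (by rw [map_pow]; exact gam_pow g)
  have h2 : ((g ^ 24) ^ 12) ^ 2 ∈ PN := by
    have hrel : (PN.subgroupOf KB).index ≤ 2 := by
      have h := Subgroup.index_mul_card (PN.subgroupOf KB)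
      rw [Nat.card_congr (Subgroup.subgroupOfEquivOfLe PN_le).toEquiv, card_PN] at h
      have := card_KB_le
      nlinarith
    have hn : (PN.subgroupOf KB).Normal := haveI := PN_normal; inferInstance
    have hpow := Subgroup.pow_index_mem (H := PN.subgroupOf KB) ⟨_, h1⟩
    have hne : (PN.subgroupOf KB).index ≠ 0 := Subgroup.index_ne_zero_of_finite
    have : (⟨_, h1⟩ : KB) ^ 2 ∈ PN.subgroupOf KB := by
      generalize (PN.subgroupOf KB).index = n at hrel hpow hne
      obtain rfl | rfl : n = 1 ∨ n = 2 := by omega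
      · rw [pow_one] at hpow; exact Subgroup.pow_mem _ hpow 2
      · exact hpow
    exact this
  exact pow_nine h2

theorem prime_factors {r : ℕ} (hr : r.Prime) (hd : r ∣ Nat.card NZ) : r = 2 ∨ r = 3 := by
  haveI : Fact r.Prime := ⟨hr⟩
  obtain ⟨x, hx⟩ := exists_prime_orderOf_dvd_card' r hd
  have h := orderOf_dvd_of_pow_eq_one (NZ_pow x)
  rw [hx, show 24 * 12 * 2 * 9 = 2 ^ 6 * 3 ^ 4 by norm_num] at h
  rcases (Nat.Prime.dvd_mul hr).1 h with h | h
  · exact Or.inl ((Nat.prime_dvd_prime_iff_eq hr Nat.prime_two).1 (hr.dvd_of_dvd_pow h))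
  · exact Or.inr ((Nat.prime_dvd_prime_iff_eq hr Nat.prime_three).1 (hr.dvd_of_dvd_pow h))

theorem solvable_NZ : Group.IsSolvable NZ := by
  have hne : Nat.card NZ ≠ 0 := Nat.card_pos.ne'
  obtain ⟨a, m, hm, e⟩ := Nat.exists_eq_pow_mul_and_not_dvd hne 2 (by norm_num)
  obtain ⟨b, k, hk, e'⟩ := Nat.exists_eq_pow_mul_and_not_dvd (n := m) (fun h => hm (h ▸ dvd_zero 2)) 3 (by norm_num)
  have hk1 : k = 1 := by
    by_contra h
    obtain ⟨r, hr, hrk⟩ := Nat.exists_prime_and_dvd h
    rcases prime_factors hr (e ▸ e' ▸ (hrk.mul_left _).mul_left _) with rfl | rfl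
    · exact hm (e' ▸ hrk.mul_left _)
    · exact hk hrk
  exact Cfsg.Agent.S0144.result 2 3 a b Nat.prime_two Nat.prime_three (by rw [e, e', hk1, mul_one])

end CfsgLib.ClassMax.F23L
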