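import Cfsg.Agent.Lib.ClassMax.Fi23Local.Elements
import Cfsg.Agent.Lib.ClassMax.Fi23Local.ChecksTables
import Mathlib.GroupTheory.Solvable

set_option autoImplicit false
set_option maxRecDepth 20000
set_option linter.style.haveILetI false

/-! The ninth derived term of the normaliser is non-trivial (owner: helper18). -/

namespace CfsgLib.ClassMax.F23L

open Cfsg CfsgLib.Recog.BitPerm CfsgLib.Recog.FiThree CfsgLib.Recog.FiThreeNorm CfsgLib.LocalEvenB.F23C

open scoped commutatorElement

attribute [local instance] finite_fi23'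

local notation "G23" => Cfsg.Spor.Fi23

/-- The table is realised in a derived term. -/
def InDer (k t : ℕ) : Prop := ∃ u ∈ derivedSeries NZ k, HasTab u t

theorem level_all {k : ℕ} (hk : k < 8) : levelOK k = true := by
  interval_cases k
  exacts [level_ok_0, level_ok_1, level_ok_2, level_ok_3, level_ok_4, level_ok_5, level_ok_6, level_ok_7]

theorem comm_tab {a b : NZ} {ta tb t : ℕ} (ha : HasTab a ta) (hb : HasTab b tb)
    (h : ∀ p < 324, app9 t (app9 tb (app9 ta p)) = app9 ta (app9 tb p)) : HasTab ⁅a, b⁆ t := by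
  intro i
  obtain ⟨p, hp⟩ := ((pi a).trans (pi b)).surjective i
  rw [Equiv.trans_apply] at hp
  subst hp
  rw [hb, ha, h p p.2, ← hb p, ← ha, ← Equiv.Perm.mul_apply, ← map_mul, ← Equiv.Perm.mul_apply,
    ← Equiv.Perm.mul_apply, ← map_mul, ← map_mul, commutatorElement_def,
    show a * b * a⁻¹ * b⁻¹ * b * a = a * b by group]

theorem conj_tab {a m : NZ} {ta tm t : ℕ} (ha : HasTab a ta) (hm : HasTab m tm)
    (h : ∀ p < 324, app9 t (app9 ta p) = app9 ta (app9 tm p)) : HasTab (a * m * a⁻¹) t := by
  intro i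
  obtain ⟨p, rfl⟩ := (pi a).surjective i
  rw [ha, h p p.2, ← hm p, ← ha, ← Equiv.Perm.mul_apply, ← map_mul, ← Equiv.Perm.mul_apply, ← map_mul,
    show a * m * a⁻¹ * a = a * m by group]

theorem inDer_all : ∀ k ≤ 8, ∀ m < (tabsAt k).length, InDer k ((tabsAt k).getD m 0) := by
  intro k
  induction k with
  | zero =>
    intro _ m hm
    have h := base0_ok
    rw [List.all_eq_true] at h
    simp only [tabsAt, if_true, List.length_map] at hm ⊢
    rw [List.getD_eq_getElem _ _ (by simpa using hm), List.getElem_map]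
    have hb := h _ (List.getElem_mem hm)
    rw [Nat.blt_eq] at hb
    obtain ⟨u, hu⟩ := tab_zero hb
    exact ⟨u, by rw [derivedSeries_zero]; exact Subgroup.mem_top u, hu⟩
  | succ k ih =>
    intro hk m
    induction m using Nat.strong_induction_on with
    | _ m ihm =>
      intro hm
      have h := level_all (show k < 8 by omega)
      simp only [levelOK, List.all_eq_true, List.mem_range] at h
      have h := h m hm
      simp only [recOK, Bool.and_eq_true, List.all_eq_true, List.mem_range, Nat.blt_eq] at h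
      obtain ⟨-, hi, h⟩ := h
      obtain ⟨a, ha, hta⟩ := ih (by omega) _ hi
      cases hr : Nat.beq ((lvR.getD k []).getD m (0, 0, 0)).1 0 with
      | true =>
        simp only [hr, cond_true, Bool.and_eq_true, List.all_eq_true, List.mem_range, Nat.blt_eq, Nat.beq_eq] at h
        obtain ⟨b, hb, htb⟩ := ih (by omega) _ h.1
        exact ⟨⁅a, b⁆, by rw [derivedSeries_succ]; exact Subgroup.commutator_mem_commutator ha hb,
          comm_tab hta htb h.2⟩
      | false =>
        simp only [hr, cond_false, Bool.and_eq_true, List.all_eq_true, List.mem_range, Nat.blt_eq, Nat.beq_eq] at h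
        obtain ⟨c, hc, htc⟩ := ihm _ h.1 (lt_trans h.1 hm)
        exact ⟨a * c * a⁻¹, (derivedSeries_normal NZ (k + 1)).conj_mem c hc a, conj_tab hta htc h.2⟩

theorem product_mem (l : List ℕ) (hl : ∀ m ∈ l, m < (tabsAt 8).length) :
    ∃ u ∈ derivedSeries NZ 8, ∀ i : Fin 324, (pi u i : ℕ) = app8 l i := by
  induction l with
  | nil => exact ⟨1, one_mem _, fun i => by rw [map_one, Equiv.Perm.one_apply]; rfl⟩
  | cons m l ih =>
    obtain ⟨u, hu, hut⟩ := ih fun x hx => hl x (List.mem_cons_of_mem _ hx)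
    obtain ⟨v, hv, hvt⟩ := inDer_all 8 le_rfl m (hl m List.mem_cons_self)
    refine ⟨v * u, mul_mem hv hu, fun i => ?_⟩
    rw [map_mul, Equiv.Perm.mul_apply, hvt, hut]
    rfl

theorem translation_mem {l : List ℕ} {j : Fin 8} (h : prodOK l j = true) :
    ∃ u ∈ derivedSeries NZ 8, u⁻¹ * xN j ∈ Subgroup.zpowers zN := by
  simp only [prodOK, Bool.and_eq_true, List.all_eq_true, List.mem_range, Nat.blt_eq, Nat.beq_eq] at h
  obtain ⟨u, hu, hut⟩ := product_mem l h.1
  refine ⟨u, hu, mem_of_pi_one ?_⟩
  have e : pi u = pi (xN j) := Equiv.ext fun i => Fin.ext (by rw [hut, h.2 i i.2, pi_xN])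
  rw [map_mul, map_inv, e, inv_mul_cancel]

theorem xN_comm_zN (j : Fin 8) : Commute (xN j) zN := Subtype.ext (xE_comm_z j.2).eq

/-- The ninth derived term is non-trivial. -/
theorem derived_nine_ne : derivedSeries NZ 9 ≠ ⊥ := by
  intro hbot
  obtain ⟨u, hu, hu'⟩ := translation_mem (j := 0) prod_ok_zero
  obtain ⟨v, hv, hv'⟩ := translation_mem (j := 1) prod_ok_one
  have huv : Commute u v := by
    have h : ⁅u, v⁆ ∈ derivedSeries NZ 9 := by
      rw [derivedSeries_succ]; exact Subgroup.commutator_mem_commutator hu hv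
    rw [hbot, Subgroup.mem_bot, commutatorElement_eq_one_iff_commute] at h
    exact h
  obtain ⟨a, ha⟩ := Subgroup.mem_zpowers_iff.1 hu'
  obtain ⟨b, hb⟩ := Subgroup.mem_zpowers_iff.1 hv'
  have e0 : u = xN 0 * zN ^ (-a) := by rw [zpow_neg, ha]; group
  have e1 : v = xN 1 * zN ^ (-b) := by rw [zpow_neg, hb]; group
  have c0 : Commute (zN ^ (-a)) v := by
    rw [e1]
    exact (((xN_comm_zN 1).zpow_right _).symm).mul_right (Commute.zpow_zpow_self zN _ _)
  have c1 : Commute (xN 0) v := by
    have h' : xN 0 = u * (zN ^ (-a))⁻¹ := by rw [e0, mul_inv_cancel_right]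
    rw [h']
    exact huv.mul_left c0.inv_left
  have c2 : Commute (xN 0) (xN 1) := by
    have h' : xN 1 = v * (zN ^ (-b))⁻¹ := by rw [e1, mul_inv_cancel_right]
    rw [h']
    exact c1.mul_right ((xN_comm_zN 0).zpow_right _).inv_right
  exact x_noncomm c2

end CfsgLib.ClassMax.F23L
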