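import Cfsg.Agent.Lib.ClassMax.Fi23Local.Maximal
import Cfsg.Agent.Lib.ClassMax.Fi23Local.Tower
import Cfsg.Agent.Lib.ClassMax.Fi23Local.Solvable

set_option autoImplicit false
set_option maxRecDepth 20000
set_option linter.style.haveILetI false

/-! A maximal subgroup of an almost simple group whose ninth derived subgroup is not perfect (owner: helper18). -/

namespace CfsgLib.ClassMax.F23L

open Cfsg CfsgLib.Recog.FiThree CfsgLib.LocalEvenB.F23C

attribute [local instance] finite_fi23'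

theorem derived_ne : derivedSeries NZ 10 ≠ derivedSeries NZ 9 := by
  intro h
  refine derived_nine_ne ?_
  haveI := solvable_NZ
  obtain ⟨n, hn⟩ := Group.IsSolvable.solvable (G := NZ)
  have hstat : ∀ k, derivedSeries NZ (9 + k) = derivedSeries NZ 9 := by
    intro k
    induction k with
    | zero => rfl
    | succ k ih => rw [← Nat.add_assoc, derivedSeries_succ, ih, ← derivedSeries_succ, h]
  rcases Nat.lt_or_ge n 9 with hlt | hge
  · exact le_bot_iff.1 (hn ▸ derivedSeries_antitone NZ hlt.le)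
  · obtain ⟨k, rfl⟩ : ∃ k, n = 9 + k := ⟨n - 9, by omega⟩
    rw [← hstat k, hn]

theorem fi23_noncomm : ¬ IsMulCommutative (⊤ : Subgroup Cfsg.Spor.Fi23) := by
  intro h
  refine x_noncomm (Subtype.ext ?_)
  have e := h.is_comm.comm (⟨_, Subgroup.mem_top ((xN 0 : NZ) : Cfsg.Spor.Fi23)⟩ : (⊤ : Subgroup Cfsg.Spor.Fi23))
    ⟨_, Subgroup.mem_top ((xN 1 : NZ) : Cfsg.Spor.Fi23)⟩
  exact congrArg (fun w : (⊤ : Subgroup Cfsg.Spor.Fi23) => (w : Cfsg.Spor.Fi23)) e

theorem witness : ∃ (G : Type) (_ : Group G) (_ : Finite G) (S H : Subgroup G), S.Normal ∧ IsSimpleGroup S ∧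
    ¬ IsMulCommutative S ∧ Subgroup.centralizer (S : Set G) = ⊥ ∧ IsCoatom H ∧
    derivedSeries H 10 ≠ derivedSeries H 9 := by
  haveI : IsSimpleGroup Cfsg.Spor.Fi23 := isSimple_fi23
  refine ⟨Cfsg.Spor.Fi23, inferInstance, finite_fi23', ⊤, NZ, inferInstance,
    IsSimpleGroup.isSimpleGroup_of_surjective ((Subgroup.topEquiv (G := Cfsg.Spor.Fi23)).symm.toMonoidHom)
      (Subgroup.topEquiv (G := Cfsg.Spor.Fi23)).symm.surjective,
    fi23_noncomm, ?_, isCoatom_NZ, derived_ne⟩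
  rw [Subgroup.coe_top, Subgroup.centralizer_univ]
  rcases (Subgroup.center Cfsg.Spor.Fi23).normal_of_characteristic.eq_bot_or_eq_top with h | h
  · exact h
  exfalso
  refine fi23_noncomm ⟨⟨fun a b => Subtype.ext ?_⟩⟩
  have hb : (b : Cfsg.Spor.Fi23) ∈ Subgroup.center Cfsg.Spor.Fi23 := by rw [h]; exact Subgroup.mem_top _
  exact Subgroup.mem_center_iff.1 hb a

end CfsgLib.ClassMax.F23L
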