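import Cfsg.Agent.Lib.ClassMax.Fi23Local.Elements

set_option autoImplicit false
set_option maxRecDepth 20000
set_option linter.style.haveILetI false

/-! The normaliser is a maximal subgroup of Fi23 (owner: helper18). -/

namespace CfsgLib.ClassMax.F23L

open Cfsg CfsgLib.Recog.BitPerm CfsgLib.Recog.FiThree CfsgLib.Recog.FiThreeNorm CfsgLib.LocalEvenB.F23C

open scoped commutatorElement

attribute [local instance] finite_fi23'

local notation "G23" => Cfsg.Spor.Fi23

theorem full_bit {c : ℕ} (hc : c < 31671) : fullMask.testBit c = true := by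
  rw [fullMask, Nat.testBit_two_pow_sub_one, decide_eq_true hc]

attribute [local irreducible] fullMask orbitSet

/-- A point reached by words of a subgroup. -/
theorem reach {K : Subgroup G23} {gens : List (List ℕ)} (hK : ∀ w ∈ gens, word w ∈ K) {b n i : ℕ}
    (h : (orbitSet net gens b n).testBit i = true) : ∃ k ∈ K, act k b = i := by
  obtain ⟨-, ⟨k, hk, rfl⟩, e⟩ := orbitSet_sub acts.valid (K := K.map act)
    (fun w hw => ⟨word w, hK w hw, act_word w⟩) n i h
  exact ⟨k, hk, e⟩

theorem eq_top_of_rep {M : Subgroup G23} (hM : NZ ≤ M) {k : ℕ} (hk : repOK k = true)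
    (hr : tau (repPt k) ∈ M) : M = ⊤ := by
  simp only [repOK, Bool.and_eq_true, Nat.blt_eq, Nat.beq_eq] at hk
  obtain ⟨hlt, hmap, horb⟩ := hk
  have hw : word (repW k) = tau (repPt k) := by
    rw [tau_word hmap, repW, word_append, ← List.singleton_append, word_append, word_singleton, word_reverse, mul_assoc]
  rw [← top_le_iff, ← closure_trans, Subgroup.closure_le, trans_eq]
  rintro _ ⟨c, hc, rfl⟩
  obtain ⟨g, hg, e⟩ := reach (K := M) (fun w hw' => by
    rcases List.mem_append.1 hw' with h | h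
    · exact hM (genWords_mem h)
    · rw [List.mem_singleton.1 h, hw]; exact hr)
    (show (orbitSet net (genWords ++ [repW k]) (repPt k) 2).testBit c = true by rw [horb]; exact full_bit hc)
  rw [← e, ← tau_equiv g hlt]
  exact mul_mem (mul_mem hg hr) (inv_mem hg)

theorem cover_bit {A B C S c : ℕ} (h : Nat.beq (Nat.lor A (Nat.lor B C)) S = true) (hS : S.testBit c = true) :
    (A.testBit c || (B.testBit c || C.testBit c)) = true := by
  rw [← Nat.eq_of_beq_eq_true h] at hS
  change (A ||| (B ||| C)).testBit c = true at hS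
  rwa [Nat.testBit_or, Nat.testBit_or] at hS

theorem tau_outside {M : Subgroup G23} (hM : NZ ≤ M) {c : ℕ} (hc : c < 31671)
    (hcF : maskF.testBit c = false) (h : tau c ∈ M) : M = ⊤ := by
  have hb := cover_bit (A := maskF) (B := orbitSet net genWords (repPt 0) 2) (C := orbitSet net genWords (repPt 1) 2)
    (S := fullMask) cover_ok (full_bit hc)
  rw [hcF, Bool.false_or, Bool.or_eq_true] at hb
  have key : ∀ k, repOK k = true → (orbitSet net genWords (repPt k) 2).testBit c = true → M = ⊤ := by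
    intro k hk hb
    obtain ⟨g, hg, e⟩ := reach (K := NZ) (fun w hw => genWords_mem hw) hb
    refine eq_top_of_rep hM hk ?_
    have hlt : repPt k < 31671 := by
      simp only [repOK, Bool.and_eq_true, Nat.blt_eq] at hk
      exact hk.1
    have e2 : tau (repPt k) = g⁻¹ * tau c * g := by
      rw [← e, ← tau_equiv g hlt]; group
    rw [e2]
    exact mul_mem (mul_mem (inv_mem (hM hg)) h) (hM hg)
  rcases hb with hb | hb
  · exact key 0 rep_ok_zero hb
  · exact key 1 rep_ok_one hb

/-- The central element is generated by the transpositions that it fixes. -/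
theorem zE_mem_closure : zE ∈ Subgroup.closure (T '' {i | i < 324}) := by
  set K0 := Subgroup.closure (T '' {i | i < 324})
  have hx : ∀ j : Fin 8, ((xN j : NZ) : G23) ∈ K0 := fun j =>
    mul_mem (Subgroup.subset_closure ⟨_, tauIdx_lt (xPair_lt j.2).1, rfl⟩)
      (Subgroup.subset_closure ⟨_, tauIdx_lt (xPair_lt j.2).2, rfl⟩)
  have hc : ⁅xN 0, xN 1⁆ ∈ Subgroup.zpowers zN := mem_of_pi_one (by
    rw [commutatorElement_def, map_mul, map_mul, map_mul, map_inv, map_inv, (pi_xN_comm 0 1).eq,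
      mul_inv_cancel_right, mul_inv_cancel])
  have hne : ⁅xN 0, xN 1⁆ ≠ 1 := fun h => x_noncomm (commutatorElement_eq_one_iff_commute.1 h)
  haveI : Fact (Nat.Prime 3) := ⟨Nat.prime_three⟩
  have heq : Subgroup.zpowers ⁅xN 0, xN 1⁆ = Subgroup.zpowers zN := by
    refine Subgroup.eq_of_le_of_card_ge (Subgroup.zpowers_le.2 hc) ?_
    rw [Nat.card_zpowers, Nat.card_zpowers, orderOf_zN]
    have h3 : orderOf ⁅xN 0, xN 1⁆ ∣ 3 := orderOf_zN ▸ orderOf_dvd_of_mem_zpowers hc
    rcases (Nat.dvd_prime Nat.prime_three).1 h3 with h | h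
    · exact absurd (orderOf_eq_one_iff.1 h) hne
    · rw [h]
  have hle : Subgroup.zpowers ⁅xN 0, xN 1⁆ ≤ K0.comap NZ.subtype := Subgroup.zpowers_le.2 (by
    rw [Subgroup.mem_comap, map_commutatorElement, commutatorElement_def]
    exact mul_mem (mul_mem (mul_mem (hx 0) (hx 1)) (inv_mem (hx 0))) (inv_mem (hx 1)))
  exact hle (heq ▸ Subgroup.mem_zpowers zN)

theorem mem_NZ_of_points {g : G23} (hg : ∀ i < 324, ∃ j < 324, act g (ptF i) = ptF j) : g ∈ NZ := by
  refine mem_NZ_of_conj ?_
  have hfix : ∀ j : Fin 324, act (g * zE * g⁻¹) (ptF j) = ptF j := by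
    intro j
    choose f hf1 hf2 using fun i : Fin 324 => hg i i.2
    let F : Fin 324 → Fin 324 := fun i => ⟨f i, hf1 i⟩
    have hinj : Function.Injective F := fun a b e => Fin.ext (ptF_inj a.2 b.2 ((act g).injective (by
      rw [hf2, hf2]; exact congrArg ptF (congrArg Fin.val e))))
    obtain ⟨i, rfl⟩ := (Finite.injective_iff_surjective.1 hinj) j
    show act (g * zE * g⁻¹) (ptF (f i)) = ptF (f i)
    rw [map_mul, map_mul, map_inv, Equiv.Perm.mul_apply, Equiv.Perm.mul_apply, ← hf2, Equiv.Perm.inv_def,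
      Equiv.symm_apply_apply, Z0_fix (Subgroup.mem_zpowers _) i.2]
  have hcomm : Commute (g * zE * g⁻¹) zE := by
    have hle : Subgroup.closure (T '' {i | i < 324}) ≤ Subgroup.centralizer {g * zE * g⁻¹} := by
      rw [Subgroup.closure_le]
      rintro _ ⟨i, hi, rfl⟩
      exact Subgroup.mem_centralizer_singleton_iff.2 ((tau_comm_iff (ptF_lt hi) _).2 (hfix ⟨i, hi⟩)).eq
    exact (Subgroup.mem_centralizer_singleton_iff.1 (hle zE_mem_closure)).symm
  have h1 : pi ⟨g * zE * g⁻¹, mem_NZ_of_comm hcomm⟩ = 1 :=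
    Equiv.ext fun j => Fin.ext (pi_eq j.2 (hfix j))
  have h2 := mem_of_pi_one h1
  rw [zpowers_zN, Subgroup.mem_subgroupOf] at h2
  exact h2

/-- The normaliser is a maximal subgroup. -/
theorem isCoatom_NZ : IsCoatom NZ := by
  refine ⟨fun htop => ?_, fun M hlt => ?_⟩
  · have hall : ∀ g : G23, g ∈ NZ := fun g => htop ▸ Subgroup.mem_top g
    obtain ⟨g, hg⟩ : ∃ g : G23, act g (ptF 0) = 3 := by
      obtain ⟨g₁, e₁⟩ := exists_pt (show 3 < 31671 by norm_num)
      obtain ⟨g₀, e₀⟩ := exists_pt (ptF_lt (show 0 < 324 by norm_num))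
      refine ⟨g₁ * g₀⁻¹, ?_⟩
      rw [map_mul, map_inv, Equiv.Perm.mul_apply, ← e₀, pt, Equiv.Perm.inv_def, Equiv.symm_apply_apply]
      exact e₁
    obtain ⟨j, hj, e⟩ := img_ex (hall g) (show 0 < 324 by norm_num)
    have := mem_maskF.2 ⟨j, hj, e.trans hg⟩
    rw [z_moves] at this
    exact Bool.false_ne_true this
  by_contra htop
  refine hlt.2 fun g hg => mem_NZ_of_points fun i hi => ?_
  by_cases h : maskF.testBit (act g (ptF i)) = true
  · obtain ⟨j, hj, e⟩ := mem_maskF.1 h
    exact ⟨j, hj, e.symm⟩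
  exfalso
  refine htop (tau_outside hlt.1 (act_lt g (ptF_lt hi)) (Bool.eq_false_iff.2 h) ?_)
  rw [← tau_equiv g (ptF_lt hi)]
  exact mul_mem (mul_mem hg (hlt.1 (T_mem hi))) (inv_mem hg)

end CfsgLib.ClassMax.F23L
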